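import Mathlib

/-!
# Symmetric algebras with a two-dimensional local centre

A finite-dimensional symmetric algebra over an algebraically closed field whose centre is
two-dimensional and has no idempotents other than `0` and `1` is a full matrix algebra over a
two-dimensional algebra; so its dimension is twice a square.
-/

set_option autoImplicit false
set_option linter.unusedSectionVars false
set_option linter.style.haveILetI false

namespace Cfsg.Lib.Blocks.TwoMember

open Module
open scoped Pointwise

variable {k R : Type*} [Field k] [Ring R] [Algebra k R]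

/-- The span of all commutators. -/
def commSpan (k R : Type*) [Field k] [Ring R] [Algebra k R] : Submodule k R :=
  Submodule.span k {c | ∃ a b : R, c = a * b - b * a}

theorem comm_mem_commSpan (a b : R) : a * b - b * a ∈ commSpan k R := Submodule.subset_span ⟨a, b, rfl⟩

section Symmetric

variable [FiniteDimensional k R] (τ : R →ₗ[k] k) (hτ : ∀ a b, τ (a * b) = τ (b * a))
  (hnd : ∀ a, (∀ b, τ (a * b) = 0) → a = 0)

/-- The bilinear form of a linear functional. -/
noncomputable def form : R →ₗ[k] Module.Dual k R := (LinearMap.mul k R).compr₂ τ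

theorem form_apply (a b : R) : form τ a b = τ (a * b) := rfl

include hnd in
theorem form_bijective : Function.Bijective (form τ) := by
  have hi : Function.Injective (form τ) := by
    rw [← LinearMap.ker_eq_bot, LinearMap.ker_eq_bot']
    exact fun a ha => hnd a fun b => by rw [← form_apply, ha]; rfl
  exact ⟨hi, (LinearMap.injective_iff_surjective_of_finrank_eq_finrank
    (Subspace.dual_finrank_eq (K := k) (V := R)).symm).1 hi⟩

include hτ hnd in
theorem mem_center_of_trace {y : R} (h : ∀ a b : R, τ (y * (a * b - b * a)) = 0) :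
    y ∈ Subalgebra.center k R := by
  rw [Subalgebra.mem_center_iff]
  intro b
  rw [eq_comm, ← sub_eq_zero]
  refine hnd _ fun a => ?_
  have h1 := h b a
  rw [mul_sub, map_sub, ← mul_assoc, hτ y (a * b), mul_assoc a b y, ← hτ (b * y) a] at h1
  rw [sub_mul, map_sub]
  exact h1

include hτ hnd in
/-- The commutators have codimension at most the dimension of the centre. -/
theorem finrank_quotient_commSpan_le :
    finrank k (R ⧸ commSpan k R) ≤ finrank k (Subalgebra.center k R) := by
  let e := LinearEquiv.ofBijective (form τ) (form_bijective τ hnd)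
  let q : Module.Dual k (R ⧸ commSpan k R) →ₗ[k] R :=
    e.symm.toLinearMap.comp (commSpan k R).mkQ.dualMap
  have hq : ∀ f r, τ (q f * r) = f (Submodule.Quotient.mk r) := fun f r => by
    rw [← form_apply τ, show form τ (q f) = e (e.symm ((commSpan k R).mkQ.dualMap f)) from rfl,
      e.apply_symm_apply]
    rfl
  have hmem : ∀ f, q f ∈ (Subalgebra.center k R).toSubmodule := fun f =>
    mem_center_of_trace τ hτ hnd fun a b => by
      rw [hq, (Submodule.Quotient.mk_eq_zero _).2 (comm_mem_commSpan a b), map_zero]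
  have hinj : Function.Injective (q.codRestrict _ hmem) := fun f f' h => by
    have h' : q f = q f' := congrArg Subtype.val h
    refine LinearMap.ext fun x => ?_
    obtain ⟨r, rfl⟩ := Submodule.Quotient.mk_surjective _ x
    rw [← hq, ← hq, h']
  rw [← Subspace.dual_finrank_eq]
  exact LinearMap.finrank_le_finrank_of_injective hinj

include hτ hnd in
/-- The simple factor is unique. -/
theorem exists_hom_matrix [IsAlgClosed k] (hZ : finrank k (Subalgebra.center k R) ≤ 2)
    (hidem : ∀ z ∈ Subalgebra.center k R, IsIdempotentElem z → z = 0 ∨ z = 1) [Nontrivial R] :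
    ∃ n : ℕ, 0 < n ∧ ∃ ψ : R →ₐ[k] Matrix (Fin n) (Fin n) k, Function.Surjective ψ ∧
      ∀ x, ψ x = 0 → x ∈ Ring.jacobson R := by
  classical
  haveI : IsArtinianRing R := IsArtinianRing.of_finite k R
  obtain ⟨m, d, hd, ⟨E⟩⟩ :=
    IsSemisimpleRing.exists_algEquiv_pi_matrix_of_isAlgClosed k (R ⧸ Ring.jacobson R)
  set π : R →ₐ[k] Π i, Matrix (Fin (d i)) (Fin (d i)) k :=
    E.toAlgHom.comp (Ideal.Quotient.mkₐ k (Ring.jacobson R)) with hπ
  have hsurj : Function.Surjective π := E.surjective.comp (Ideal.Quotient.mk_surjective)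
  have hker : ∀ x, π x = 0 ↔ x ∈ Ring.jacobson R := fun x => by
    rw [← Ideal.Quotient.eq_zero_iff_mem]
    exact ⟨fun h => E.injective (by rw [map_zero]; exact h), fun h => by
      show E (Ideal.Quotient.mk _ x) = 0
      rw [h, map_zero]⟩
  -- the trace of each factor, as a central element
  let tr : Fin m → R →ₗ[k] k := fun i =>
    (Matrix.traceLinearMap (Fin (d i)) k k).comp ((LinearMap.proj i).comp π.toLinearMap)
  have htr : ∀ i x, tr i x = Matrix.trace (π x i) := fun _ _ => rfl
  choose y hy using fun i => (form_bijective τ hnd).2 (tr i)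
  have hyc : ∀ i, y i ∈ Subalgebra.center k R := fun i => mem_center_of_trace τ hτ hnd fun a b => by
    rw [← form_apply τ, hy, htr]
    simp [Matrix.trace_mul_comm (π a i)]
  have hli : LinearIndependent k y := by
    rw [Fintype.linearIndependent_iff]
    intro g hg i
    haveI := hd i
    obtain ⟨x, hx⟩ := hsurj (Pi.single i (Matrix.single 0 0 1))
    have h := congrArg (fun w => form τ w x) hg
    simp only [map_sum, map_smul, LinearMap.sum_apply, LinearMap.smul_apply, hy, htr, hx, smul_eq_mul,
      map_zero, LinearMap.zero_apply] at h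
    rw [Finset.sum_eq_single i (fun j _ hj => by rw [Pi.single_eq_of_ne hj]; simp) (by simp)] at h
    simpa using h
  rcases Nat.lt_or_ge m 2 with hm | hm
  · interval_cases m
    · exfalso
      have : (1 : Π i : Fin 0, Matrix (Fin (d i)) (Fin (d i)) k) = 0 := funext fun i => i.elim0
      rw [← map_one π, hker] at this
      obtain ⟨N, hN⟩ : IsNilpotent (Ring.jacobson R) := IsSemiprimaryRing.isNilpotent
      have h1 : (1 : R) ∈ Ring.jacobson R ^ N := by
        rw [(Ideal.eq_top_iff_one _).2 this, Ideal.top_pow]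
        trivial
      rw [hN] at h1
      exact one_ne_zero h1
    · haveI := hd 0
      refine ⟨d 0, Nat.pos_of_ne_zero (NeZero.ne _), (Pi.evalAlgHom k _ 0).comp π,
        fun M => ?_, fun x hx => (hker x).1 (funext fun i => ?_)⟩
      · obtain ⟨x, hx⟩ := hsurj (Function.update 0 0 M)
        exact ⟨x, by simp [hx]⟩
      · rw [Subsingleton.elim i 0]; exact hx
  · exfalso
    -- with two factors the functional is a trace, so the radical vanishes
    set Z := (Subalgebra.center k R).toSubmodule
    have hcard : m ≤ finrank k Z := by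
      have hli' : LinearIndependent k (fun i => (⟨y i, hyc i⟩ : Z)) :=
        LinearIndependent.of_comp Z.subtype hli
      simpa using hli'.fintype_card_le_finrank
    have hspan : Submodule.span k (Set.range y) = Z := by
      refine Submodule.eq_of_le_of_finrank_le
        (Submodule.span_le.2 (by rintro _ ⟨i, rfl⟩; exact hyc i)) ?_
      rw [finrank_span_eq_card hli, Fintype.card_fin]
      exact le_trans hZ hm
    obtain ⟨g, hg⟩ := (Submodule.mem_span_range_iff_exists_fun k).1
      (hspan ▸ (Subalgebra.center k R).one_mem : (1 : R) ∈ Submodule.span k (Set.range y))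
    have hJ : ∀ x, x ∈ Ring.jacobson R → τ x = 0 := fun x hx => by
      rw [← one_mul x, ← hg, ← form_apply τ, map_sum]
      simp [hy, htr, (hker x).2 hx]
    have hJ0 : ∀ x, x ∈ Ring.jacobson R → x = 0 := fun x hx => hnd x fun b => by
      rw [hτ]; exact hJ _ (Ideal.mul_mem_left _ b hx)
    have hinj : Function.Injective π := fun a b h =>
      sub_eq_zero.1 (hJ0 _ ((hker _).1 (by rw [map_sub, h, sub_self])))
    let i₀ : Fin m := ⟨0, by omega⟩
    let i₁ : Fin m := ⟨1, by omega⟩
    obtain ⟨z, hz⟩ := hsurj (Pi.single i₀ 1)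
    have hzc : z ∈ Subalgebra.center k R := by
      rw [Subalgebra.mem_center_iff]
      intro b
      refine hinj ?_
      rw [map_mul, map_mul, hz]
      funext i
      by_cases hi : i = i₀
      · subst hi; simp
      · simp [Pi.single_eq_of_ne hi]
    have hzi : IsIdempotentElem z := hinj (by
      rw [map_mul, hz, ← Pi.single_mul, mul_one])
    haveI := hd i₀
    haveI := hd i₁
    rcases hidem z hzc hzi with rfl | rfl
    · have := congrFun hz i₀
      simp at this
    · have := congrFun hz i₁
      simp [Pi.single_eq_of_ne (show i₁ ≠ i₀ by simp [i₀, i₁])] at this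

end Symmetric

section Corner

variable [FiniteDimensional k R] {n : ℕ} (ψ : R →ₐ[k] Matrix (Fin n) (Fin n) k)

/-- Lifted matrix units. -/
theorem exists_units (hψ : Function.Surjective ψ) (hker : ∀ x, ψ x = 0 → x ∈ Ring.jacobson R)
    (i₀ : Fin n) :
    ∃ e : R, ∃ u v : Fin n → R, ψ e = Matrix.single i₀ i₀ 1 ∧ (∀ i, u i * e = u i) ∧
      (∀ i, e * v i = v i) ∧ (∀ i j, v i * u j = if i = j then e else 0) ∧ ∑ i, u i * v i = 1 := by
  classical
  haveI : IsArtinianRing R := IsArtinianRing.of_finite k R
  obtain ⟨N, hN⟩ : IsNilpotent (Ring.jacobson R) := IsSemiprimaryRing.isNilpotent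
  have hnil : ∀ x : R, ψ x = 0 → IsNilpotent x := fun x hx => ⟨N, by
    have := Ideal.pow_mem_pow (hker x hx) N
    rwa [hN] at this⟩
  have hE : CompleteOrthogonalIdempotents fun i : Fin n => Matrix.single i i (1 : k) :=
    { idem := fun i => by simp [IsIdempotentElem]
      ortho := fun i j hij => by simp [hij]
      complete := by
        ext a b
        rw [Matrix.sum_apply, Finset.sum_eq_single a (fun i _ hi => by simp [Matrix.single_apply, hi])
          (by simp)]
        by_cases hab : a = b <;> simp [Matrix.single_apply, Matrix.one_apply, hab] }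
  obtain ⟨ε, hε, hεψ⟩ := CompleteOrthogonalIdempotents.lift_of_isNilpotent_ker ψ.toRingHom hnil hE
    fun i => hψ _
  have hεi : ∀ i, ψ (ε i) = Matrix.single i i 1 := fun i => congrFun hεψ i
  set e := ε i₀ with he
  choose a ha using fun i => hψ (Matrix.single i i₀ (1 : k))
  choose b hb using fun i => hψ (Matrix.single i₀ i (1 : k))
  have hee : e * e = e := hε.idem i₀
  have key : ∀ i, ∃ v : R, e * v = v ∧ v * ε i = v ∧ v * (ε i * a i * e) = e ∧
      ψ v = Matrix.single i₀ i 1 := by
    intro i
    set q := e * b i * ε i * a i * e - e with hq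
    have hqψ : ψ q = 0 := by simp [hq, he, hεi, ha, hb]
    have heq : e * q = q := by
      simp only [hq, mul_sub, ← mul_assoc, hee]
    have hqe : q * e = q := by
      simp only [hq, sub_mul, mul_assoc, hee]
    obtain ⟨w, hw⟩ := IsNilpotent.isUnit_one_add (hnil q hqψ)
    have hcomm : e * (w : R) = w * e := by
      rw [hw, mul_add, add_mul, heq, hqe, mul_one, one_mul]
    have hinv : e * (↑w⁻¹ : R) = ↑w⁻¹ * e := by
      calc e * (↑w⁻¹ : R) = ↑w⁻¹ * (↑w * e) * ↑w⁻¹ := by rw [← mul_assoc, Units.inv_mul, one_mul]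
        _ = ↑w⁻¹ * e := by rw [← hcomm, mul_assoc, Units.mul_inv_cancel_right]
    refine ⟨↑w⁻¹ * (e * b i * ε i), ?_, ?_, ?_, ?_⟩
    · rw [← mul_assoc, hinv]
      simp only [mul_assoc]
      rw [← mul_assoc e e, hee]
    · simp only [mul_assoc, (hε.idem i).eq]
    · have h2 : e * b i * ε i * (ε i * a i * e) = e * (w : R) := by
        rw [hw, mul_add, mul_one, heq, hq]
        simp only [← mul_assoc]
        rw [mul_assoc (e * b i) (ε i) (ε i), (hε.idem i).eq]
        abel
      rw [mul_assoc, h2, hcomm, Units.inv_mul_cancel_left]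
    · have hw1 : ψ (↑w⁻¹ : R) = 1 := by
        have h := congrArg ψ w.inv_mul
        rwa [map_mul, map_one, hw, map_add, map_one, hqψ, add_zero, mul_one] at h
      simp [hw1, he, hεi, hb]
  choose v hev hvε hvu hvψ using key
  refine ⟨e, fun i => ε i * a i * e, v, hεi i₀, fun i => by rw [mul_assoc, hee], hev,
    fun i j => ?_, ?_⟩
  · split_ifs with hij
    · subst hij; exact hvu i
    · rw [← hvε i, ← mul_assoc, ← mul_assoc, mul_assoc (v i) (ε i) (ε j), hε.ortho hij, mul_zero,
        zero_mul, zero_mul]
  · rw [← hε.complete]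
    refine Finset.sum_congr rfl fun i _ => ?_
    set P := ε i * a i * e * v i with hP
    have hPP : P * P = P := by
      rw [hP, mul_assoc (ε i * a i * e), ← mul_assoc (v i) _ (v i), hvu, hev]
    have hεP : ε i * P = P := by simp only [hP, ← mul_assoc, (hε.idem i).eq]
    have hPε : P * ε i = P := by rw [hP, mul_assoc, hvε]
    have hD : IsIdempotentElem (ε i - P) := by
      show (ε i - P) * (ε i - P) = ε i - P
      rw [mul_sub, sub_mul, sub_mul, hPP, hεP, hPε, (hε.idem i).eq]
      abel
    have h0 : ψ (ε i - P) = 0 := by simp [hP, he, hεi, ha, hvψ]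
    exact (sub_eq_zero.1 (hD.eq_zero_of_isNilpotent (hnil _ h0))).symm

variable {e : R} {u v : Fin n → R}

/-- `R` is a matrix algebra over the corner at `e`. -/
theorem finrank_eq_mul_corner (hu : ∀ i, u i * e = u i) (hv : ∀ i, e * v i = v i)
    (hvu : ∀ i j, v i * u j = if i = j then e else 0) (hone : ∑ i, u i * v i = 1) :
    finrank k R =
      n * n * finrank k (LinearMap.range ((LinearMap.mulLeft k e).comp (LinearMap.mulRight k e))) := by
  classical
  set Φ := (LinearMap.mulLeft k e).comp (LinearMap.mulRight k e) with hΦ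
  have hΦa : ∀ r, Φ r = e * (r * e) := fun r => rfl
  have hmem : ∀ r i j, v i * r * u j ∈ LinearMap.range Φ := fun r i j =>
    ⟨v i * r * u j, by rw [hΦa, mul_assoc (v i * r), hu, ← mul_assoc, ← mul_assoc, hv]⟩
  let Θ : (Fin n × Fin n → LinearMap.range Φ) →ₗ[k] R :=
    { toFun := fun f => ∑ ij : Fin n × Fin n, u ij.1 * (f ij : R) * v ij.2
      map_add' := fun f g => by simp [mul_add, add_mul, Finset.sum_add_distrib]
      map_smul' := fun c f => by simp [Finset.smul_sum] }
  have hsurj : Function.Surjective Θ := fun r => ⟨fun ij => ⟨_, hmem r ij.1 ij.2⟩, by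
    show ∑ ij : Fin n × Fin n, u ij.1 * (v ij.1 * r * u ij.2) * v ij.2 = r
    rw [Fintype.sum_prod_type]
    conv_rhs => rw [← one_mul r, ← mul_one (1 * r), ← hone, Finset.sum_mul, Finset.sum_mul]
    refine Finset.sum_congr rfl fun i _ => ?_
    rw [Finset.mul_sum]
    exact Finset.sum_congr rfl fun j _ => by simp only [mul_assoc]⟩
  have hinj : Function.Injective Θ := by
    rw [← LinearMap.ker_eq_bot, LinearMap.ker_eq_bot']
    intro f hf
    funext ⟨i, j⟩
    refine Subtype.ext ?_
    have hfix : ∀ ab, e * (f ab : R) * e = f ab := fun ab => by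
      obtain ⟨r, hr⟩ := (f ab).2
      have hee : e * e = e := by
        have h1 := hvu ab.1 ab.1
        rw [if_pos rfl] at h1
        nth_rewrite 2 [← h1]
        rw [← mul_assoc, hv, h1]
      rw [← hr, hΦa]
      simp only [← mul_assoc, hee]
      simp only [mul_assoc, hee]
    have h := congrArg (fun x => v i * x * u j) hf
    simp only [Θ, LinearMap.coe_mk, AddHom.coe_mk, Finset.mul_sum, Finset.sum_mul, mul_zero,
      zero_mul] at h
    rw [Finset.sum_eq_single (i, j) (fun ab _ hab => ?_) (by simp)] at h
    · rw [← mul_assoc, ← mul_assoc, hvu, if_pos rfl, mul_assoc _ (v j), hvu, if_pos rfl,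
        hfix] at h
      exact h
    · rw [← mul_assoc, ← mul_assoc, hvu, mul_assoc _ (v ab.2), hvu]
      by_cases h1 : i = ab.1
      · have h2 : ab.2 ≠ j := fun h2 => hab (Prod.ext h1.symm h2)
        rw [if_neg h2, mul_zero]
      · rw [if_neg h1, zero_mul, zero_mul]
  rw [← (LinearEquiv.ofBijective Θ ⟨hinj, hsurj⟩).finrank_eq, Module.finrank_pi_fintype,
    Finset.sum_const, Finset.card_univ, Fintype.card_prod, Fintype.card_fin, smul_eq_mul]

/-- The corner has dimension at most two. -/
theorem finrank_corner_le (hker : ∀ x, ψ x = 0 → x ∈ Ring.jacobson R) {i₀ : Fin n}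
    (he : ψ e = Matrix.single i₀ i₀ 1) (hu : ∀ i, u i * e = u i) (hv : ∀ i, e * v i = v i)
    (hvu : ∀ i j, v i * u j = if i = j then e else 0) (hone : ∑ i, u i * v i = 1)
    (hcod : finrank k (R ⧸ commSpan k R) ≤ 2) :
    finrank k (LinearMap.range ((LinearMap.mulLeft k e).comp (LinearMap.mulRight k e))) ≤ 2 := by
  classical
  haveI : IsArtinianRing R := IsArtinianRing.of_finite k R
  obtain ⟨L, hL⟩ : IsNilpotent (Ring.jacobson R) := IsSemiprimaryRing.isNilpotent
  set A := LinearMap.range ((LinearMap.mulLeft k e).comp (LinearMap.mulRight k e)) with hA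
  have hee : e * e = e := by
    have h1 := hvu i₀ i₀
    rw [if_pos rfl] at h1
    nth_rewrite 2 [← h1]
    rw [← mul_assoc, hv, h1]
  have memA : ∀ x, x ∈ A ↔ e * x = x ∧ x * e = x := fun x => by
    constructor
    · rintro ⟨r, rfl⟩
      simp only [LinearMap.comp_apply, LinearMap.mulLeft_apply, LinearMap.mulRight_apply]
      exact ⟨by rw [← mul_assoc, hee], by simp only [mul_assoc, hee]⟩
    · rintro ⟨h1, h2⟩
      exact ⟨x, by simp [h1, h2]⟩
  set N : Submodule k R := A ⊓ LinearMap.ker ψ.toLinearMap with hN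
  have memN : ∀ x, x ∈ N ↔ x ∈ A ∧ ψ x = 0 := fun x => by simp [hN]
  -- each element of the corner is scalar modulo `N`
  have hdec : ∀ x ∈ A, ∃ c : k, x - c • e ∈ N := fun x hx => by
    obtain ⟨h1, h2⟩ := (memA x).1 hx
    refine ⟨ψ x i₀ i₀, (memN _).2 ⟨A.sub_mem hx (A.smul_mem _ ((memA e).2 ⟨hee, hee⟩)), ?_⟩⟩
    have hx' : ψ x = Matrix.single i₀ i₀ 1 * ψ x * Matrix.single i₀ i₀ 1 := by
      rw [← he, ← map_mul, ← map_mul, h1, h2]
    rw [map_sub, map_smul, he, sub_eq_zero]
    conv_lhs => rw [hx', Matrix.single_mul_mul_single]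
    simp [Matrix.smul_single]
  -- closure
  have hmulN : ∀ x ∈ N, ∀ y ∈ N, x * y ∈ N := fun x hx y hy => by
    obtain ⟨hxA, hx0⟩ := (memN x).1 hx
    obtain ⟨hyA, -⟩ := (memN y).1 hy
    refine (memN _).2 ⟨(memA _).2 ⟨?_, ?_⟩, by rw [map_mul, hx0, zero_mul]⟩
    · rw [← mul_assoc, ((memA x).1 hxA).1]
    · rw [mul_assoc, ((memA y).1 hyA).2]
  have hN2 : N * N ≤ N := Submodule.mul_le.2 hmulN
  have hN3 : N * N * N ≤ N * N :=
    Submodule.mul_le.2 fun x hx y hy => Submodule.mul_mem_mul (hN2 hx) hy
  -- the commutators of the corner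
  set CA : Submodule k R := Submodule.span k {c | ∃ x ∈ N, ∃ y ∈ N, c = x * y - y * x} with hCA
  let T : R →ₗ[k] R := ∑ i, (LinearMap.mulLeft k (v i)).comp (LinearMap.mulRight k (u i))
  have hT : ∀ r, T r = ∑ i, v i * r * u i := fun r => by
    simp [T, LinearMap.sum_apply, mul_assoc]
  have hX : ∀ r i j, v i * r * u j ∈ A := fun r i j => (memA _).2
    ⟨by rw [← mul_assoc, ← mul_assoc, hv], by rw [mul_assoc, hu]⟩
  have hcommA : ∀ x ∈ A, ∀ y ∈ A, x * y - y * x ∈ CA := fun x hx y hy => by
    obtain ⟨c, hc⟩ := hdec x hx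
    obtain ⟨c', hc'⟩ := hdec y hy
    refine Submodule.subset_span ⟨_, hc, _, hc', ?_⟩
    obtain ⟨x1, x2⟩ := (memA x).1 hx
    obtain ⟨y1, y2⟩ := (memA y).1 hy
    simp only [sub_mul, mul_sub, smul_mul_assoc, mul_smul_comm, x1, x2, y1, y2, hee, smul_sub, smul_smul,
      mul_comm c c']
    abel
  have hTc : commSpan k R ≤ CA.comap T := Submodule.span_le.2 <| by
    rintro _ ⟨r, s, rfl⟩
    show T (r * s - s * r) ∈ CA
    have hexp : ∀ r s, T (r * s) = ∑ i, ∑ j, (v i * r * u j) * (v j * s * u i) := fun r s => by
      rw [hT]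
      refine Finset.sum_congr rfl fun i _ => ?_
      calc v i * (r * s) * u i = v i * r * (∑ j, u j * v j) * (s * u i) := by
            rw [hone, mul_one]; simp only [mul_assoc]
        _ = _ := by
            rw [Finset.mul_sum, Finset.sum_mul]
            exact Finset.sum_congr rfl fun j _ => by simp only [mul_assoc]
    rw [map_sub, hexp r s, hexp s r, Finset.sum_comm (f := fun i j =>
      (v i * s * u j) * (v j * r * u i)), ← Finset.sum_sub_distrib]
    refine Submodule.sum_mem _ fun i _ => ?_
    rw [← Finset.sum_sub_distrib]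
    exact Submodule.sum_mem _ fun j _ => hcommA _ (hX _ _ _) _ (hX _ _ _)
  have hTA : ∀ x ∈ A, T (u i₀ * x * v i₀) = x := fun x hx => by
    obtain ⟨x1, x2⟩ := (memA x).1 hx
    rw [hT, Finset.sum_eq_single i₀ (fun j _ hj => ?_) (by simp)]
    · rw [← mul_assoc, ← mul_assoc, hvu, if_pos rfl, mul_assoc _ (v i₀), hvu, if_pos rfl, x1, x2]
    · rw [← mul_assoc, ← mul_assoc, hvu, if_neg hj, zero_mul, zero_mul, zero_mul]
  have hcodA : finrank k A ≤ finrank k CA + 2 := by
    let q : (R ⧸ commSpan k R) →ₗ[k] R ⧸ CA := Submodule.mapQ _ _ T hTc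
    have h1 : finrank k (LinearMap.range q) ≤ 2 := (LinearMap.finrank_range_le q).trans hcod
    have h2 : A.map CA.mkQ ≤ LinearMap.range q := by
      rintro _ ⟨x, hx, rfl⟩
      exact ⟨Submodule.Quotient.mk (u i₀ * x * v i₀), by
        rw [Submodule.mapQ_apply, hTA x hx]; rfl⟩
    have h3 : finrank k (A.map CA.mkQ) + finrank k (LinearMap.ker (CA.mkQ.domRestrict A)) =
        finrank k A := by
      have := LinearMap.finrank_range_add_finrank_ker (CA.mkQ.domRestrict A)
      rwa [LinearMap.range_domRestrict] at this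
    have h4 : finrank k (LinearMap.ker (CA.mkQ.domRestrict A)) ≤ finrank k CA := by
      let g : LinearMap.ker (CA.mkQ.domRestrict A) →ₗ[k] CA :=
        { toFun := fun x => ⟨((x : A) : R), (Submodule.Quotient.mk_eq_zero _).1 x.2⟩
          map_add' := fun _ _ => rfl
          map_smul' := fun _ _ => rfl }
      exact LinearMap.finrank_le_finrank_of_injective (f := g)
        fun x y h => Subtype.ext (Subtype.ext (congrArg (fun z : CA => (z : R)) h))
    have := Submodule.finrank_mono h2
    omega
  -- the dimension of `N`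
  have heN : e ∉ N := fun h => by
    have := ((memN e).1 h).2
    rw [he] at this
    have := congrFun (congrFun this i₀) i₀
    simp at this
  have he0 : e ≠ 0 := fun h => heN (h ▸ N.zero_mem)
  have hsup : N ⊔ Submodule.span k {e} = A := le_antisymm
    (sup_le inf_le_left (Submodule.span_le.2 (by simpa using (memA e).2 ⟨hee, hee⟩)))
    fun x hx => by
      obtain ⟨c, hc⟩ := hdec x hx
      exact Submodule.mem_sup.2 ⟨_, hc, _, Submodule.smul_mem _ c (Submodule.mem_span_singleton_self e),
        sub_add_cancel x _⟩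
  have hAN : finrank k A = finrank k N + 1 := by
    have h := Submodule.finrank_sup_add_finrank_inf_eq N (Submodule.span k {e})
    rw [hsup, finrank_span_singleton he0] at h
    have hbot : N ⊓ Submodule.span k {e} = ⊥ := by
      refine (Submodule.eq_bot_iff _).2 fun x hx => ?_
      obtain ⟨hxN, hxe⟩ := hx
      obtain ⟨c, rfl⟩ := Submodule.mem_span_singleton.1 hxe
      by_contra hne
      have hc : c ≠ 0 := fun h => hne (by rw [h, zero_smul])
      exact heN (by simpa [hc] using N.smul_mem c⁻¹ hxN)
    rw [hbot, finrank_bot] at h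
    omega
  have hC2 : CA ≤ N * N := Submodule.span_le.2 <| by
    rintro _ ⟨x, hx, y, hy, rfl⟩
    exact (N * N).sub_mem (Submodule.mul_mem_mul hx hy) (Submodule.mul_mem_mul hy hx)
  have hNN : finrank k N ≤ finrank k (N * N : Submodule k R) + 1 := by
    have := Submodule.finrank_mono hC2
    omega
  -- `N` is generated by one element modulo its square
  obtain ⟨η, hηN, hgen⟩ : ∃ η ∈ N, ∀ x ∈ N, ∃ c : k, x - c • η ∈ N * N := by
    by_cases hle : N ≤ N * N
    · exact ⟨0, N.zero_mem, fun x hx => ⟨0, by simpa using hle hx⟩⟩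
    · obtain ⟨η, hηN, hη⟩ := SetLike.not_le_iff_exists.1 hle
      refine ⟨η, hηN, fun x hx => ?_⟩
      have hlt : N * N < N * N ⊔ Submodule.span k {η} :=
        lt_of_le_of_ne le_sup_left fun h => hη (h ▸ Submodule.mem_sup_right (Submodule.mem_span_singleton_self η))
      have heq : N * N ⊔ Submodule.span k {η} = N := Submodule.eq_of_le_of_finrank_le
        (sup_le hN2 (Submodule.span_le.2 (by simpa using hηN)))
        (by have := Submodule.finrank_lt_finrank_of_lt hlt; omega)
      rw [← heq] at hx
      obtain ⟨a, ha, b, hb, rfl⟩ := Submodule.mem_sup.1 hx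
      obtain ⟨c, rfl⟩ := Submodule.mem_span_singleton.1 hb
      exact ⟨c, by simpa using ha⟩
  have hC3 : CA ≤ N * N * N := Submodule.span_le.2 <| by
    rintro _ ⟨x, hx, y, hy, rfl⟩
    obtain ⟨c, hc⟩ := hgen x hx
    obtain ⟨c', hc'⟩ := hgen y hy
    set x' := x - c • η
    set y' := y - c' • η
    have hxy : x * y - y * x = x' * y' - y' * x' + c • (η * y' - y' * η) + c' • (x' * η - η * x') := by
      simp only [x', y', sub_mul, mul_sub, smul_sub, smul_mul_assoc, mul_smul_comm, smul_smul, mul_comm c c']
      abel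
    show x * y - y * x ∈ N * N * N
    rw [hxy]
    have hassoc : N * N * N = N * (N * N) := mul_assoc _ _ _
    refine add_mem (add_mem (sub_mem ?_ ?_) (Submodule.smul_mem _ _ (sub_mem ?_ ?_)))
      (Submodule.smul_mem _ _ (sub_mem ?_ ?_))
    · exact Submodule.mul_mem_mul hc (hN2 hc')
    · exact Submodule.mul_mem_mul hc' (hN2 hc)
    · rw [hassoc]; exact Submodule.mul_mem_mul hηN hc'
    · exact Submodule.mul_mem_mul hc' hηN
    · exact Submodule.mul_mem_mul hc hηN
    · rw [hassoc]; exact Submodule.mul_mem_mul hηN hc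
  have hN3' : finrank k N ≤ finrank k (N * N * N : Submodule k R) + 1 := by
    have := Submodule.finrank_mono hC3
    omega
  -- nilpotency
  have hpow : ∀ S : Submodule k R, S ≤ N → S ≤ N * S → S = ⊥ := by
    intro S hSN hS
    have hind : ∀ j : ℕ, ∀ x ∈ S, x ∈ Ring.jacobson R ^ j := by
      intro j
      induction j with
      | zero => intro x _; rw [Submodule.pow_zero, Ideal.one_eq_top]; exact Submodule.mem_top
      | succ j ih =>
        intro x hx
        refine Submodule.mul_induction_on (hS hx) (fun a ha b hb => ?_) fun a b ha hb => add_mem ha hb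
        rw [Ideal.IsTwoSided.pow_succ]
        exact Ideal.mul_mem_mul (hker a ((memN a).1 ha).2) (ih b hb)
    exact (Submodule.eq_bot_iff _).2 fun x hx => by simpa [hL] using hind L x hx
  have hNN0 : N * N = ⊥ := by
    by_cases hlt : N * N = N
    · have := hpow N le_rfl (le_of_eq hlt.symm)
      simp [this]
    · have h1 : finrank k (N * N : Submodule k R) < finrank k N :=
        Submodule.finrank_lt_finrank_of_lt (lt_of_le_of_ne hN2 hlt)
      have h2 : N * N * N = N * N := Submodule.eq_of_le_of_finrank_le hN3 (by omega)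
      exact hpow (N * N) hN2 (le_of_eq (by rw [← mul_assoc, h2]))
  rw [hNN0, finrank_bot] at hNN
  omega

end Corner

/-- A symmetric algebra with a two-dimensional centre free of nontrivial idempotents has twice a
square as dimension. -/
theorem exists_finrank_eq_two_mul_sq [IsAlgClosed k] [FiniteDimensional k R] [Nontrivial R]
    (τ : R →ₗ[k] k) (hτ : ∀ a b, τ (a * b) = τ (b * a)) (hnd : ∀ a, (∀ b, τ (a * b) = 0) → a = 0)
    (hZ : finrank k (Subalgebra.center k R) = 2)
    (hidem : ∀ z ∈ Subalgebra.center k R, IsIdempotentElem z → z = 0 ∨ z = 1) :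
    ∃ n : ℕ, 0 < n ∧ finrank k R = 2 * (n * n) := by
  classical
  obtain ⟨n, hn, ψ, hψ, hker⟩ := exists_hom_matrix τ hτ hnd hZ.le hidem
  obtain ⟨e, u, v, he, hu, hv, hvu, hone⟩ := exists_units ψ hψ hker ⟨0, hn⟩
  have hle := finrank_corner_le ψ hker he hu hv hvu hone
    ((finrank_quotient_commSpan_le τ hτ hnd).trans hZ.le)
  have hdim := finrank_eq_mul_corner (k := k) hu hv hvu hone
  have hge : n * n ≤ finrank k R := by
    have := LinearMap.finrank_le_finrank_of_injective (R := k)
      (f := (LinearMap.dualMap ψ.toLinearMap)) (LinearMap.dualMap_injective_of_surjective hψ)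
    rwa [Subspace.dual_finrank_eq, Subspace.dual_finrank_eq, Module.finrank_matrix, Fintype.card_fin,
      Module.finrank_self, mul_one] at this
  refine ⟨n, hn, ?_⟩
  set f := finrank k (LinearMap.range ((LinearMap.mulLeft k e).comp (LinearMap.mulRight k e)))
  interval_cases hf : f
  · have : 0 < n * n := Nat.mul_pos hn hn
    omega
  · -- semisimple: the centre is the field
    exfalso
    have hinj : Function.Injective ψ.toLinearMap := by
      refine (LinearMap.injective_iff_surjective_of_finrank_eq_finrank ?_).2 hψ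
      rw [Module.finrank_matrix, Fintype.card_fin, Module.finrank_self, hdim]
    have hle1 : finrank k (Subalgebra.center k R).toSubmodule ≤ 1 := by
      have hsub : (Subalgebra.center k R).toSubmodule ≤ Submodule.span k {(1 : R)} := by
        intro z hz
        have hzc : ψ z ∈ Set.center (Matrix (Fin n) (Fin n) k) := by
          rw [Semigroup.mem_center_iff]
          intro M
          obtain ⟨r, rfl⟩ := hψ M
          rw [← map_mul, ← map_mul]
          exact congrArg ψ ((Subalgebra.mem_center_iff (R := k)).1 hz r)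
        rw [Matrix.center_eq_range] at hzc
        obtain ⟨c, hc⟩ := hzc
        refine Submodule.mem_span_singleton.2 ⟨c, hinj ?_⟩
        show ψ (c • (1 : R)) = ψ z
        rw [map_smul, map_one, ← hc]
        simp [Matrix.scalar, Algebra.algebraMap_eq_smul_one, ← Matrix.smul_one_eq_diagonal]
      exact (Submodule.finrank_mono hsub).trans (le_of_eq (finrank_span_singleton one_ne_zero))
    have : finrank k (Subalgebra.center k R).toSubmodule = 2 := hZ
    omega
  · rw [hdim, mul_comm]

end Cfsg.Lib.Blocks.TwoMember
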