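import Mathlib
import Cfsg.Agent.Blocks.TwoMember.LocalAlgebra
import Cfsg.Agent.Blocks.Idem
import Cfsg.Agent.Blocks.Brauer
import Cfsg.Agent.Blocks.RelTrace
import Cfsg.Agent.Blocks.Orth

/-!
# The modular algebra of a block with two characters

The reduction of a block with exactly two irreducible characters is a symmetric algebra with a
two-dimensional local centre, so its dimension, the sum of the squares of the two degrees, is twice
a square.
-/

set_option autoImplicit false
set_option linter.unusedSectionVars false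
set_option linter.style.haveILetI false

namespace Cfsg.Lib.Blocks.TwoMember

open Module Cfsg.Lib.Chars
open scoped ComplexConjugate

universe u

/-- The residue field at a place of the complex numbers is algebraically closed. -/
theorem isAlgClosed_res (M : Ideal AlgInt) : IsAlgClosed (Res M) := by
  refine IsAlgClosed.of_exists_root _ fun q hmon hirr => ?_
  obtain ⟨Q, hQ, hdeg, hQm⟩ := Polynomial.lifts_and_degree_eq_and_monic
    (f := IsLocalRing.residue (place M))
    (Polynomial.map_surjective _ IsLocalRing.residue_surjective q) hmon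
  obtain ⟨z, hz⟩ := IsAlgClosed.exists_aeval_eq_zero ℂ Q (by
    rw [hdeg]
    exact (Polynomial.degree_pos_of_irreducible hirr).ne')
  obtain ⟨w, rfl⟩ := IsIntegrallyClosed.isIntegral_iff.1 (⟨Q, hQm, hz⟩ : IsIntegral (place M) z)
  refine ⟨IsLocalRing.residue (place M) w, ?_⟩
  have hw : Q.eval w = 0 := by
    rw [Polynomial.aeval_algebraMap_apply] at hz
    exact IsFractionRing.injective (place M) ℂ
      (by rw [← Polynomial.coe_aeval_eq_eval, hz, map_zero])
  rw [← hQ, Polynomial.eval_map_apply, hw, map_zero]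

section Corner

variable {k A : Type*} [Field k] [Ring A] [Algebra k A] (e : A)

/-- The corner at a central idempotent. -/
def corner (k : Type*) [Field k] {A : Type*} [Ring A] [Algebra k A] (e : A) : Submodule k A where
  carrier := {x | e * x = x}
  add_mem' := fun {a b} ha hb => by simp only [Set.mem_setOf_eq] at *; rw [mul_add, ha, hb]
  zero_mem' := mul_zero e
  smul_mem' := fun c a ha => by simp only [Set.mem_setOf_eq] at *; rw [mul_smul_comm, ha]

theorem mem_corner {x : A} : x ∈ corner k e ↔ e * x = x := Iff.rfl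

variable [IsAlgClosed k] [FiniteDimensional k A]

/-- The corner form of the dimension theorem. -/
theorem exists_finrank_corner (hc : ∀ a, e * a = a * e) (hee : e * e = e) (hne : e ≠ 0)
    (τ : A →ₗ[k] k) (hτ : ∀ a b, τ (a * b) = τ (b * a)) (hnd : ∀ a, (∀ b, τ (a * b) = 0) → a = 0)
    (hZ : finrank k (corner k e ⊓ (Subalgebra.center k A).toSubmodule : Submodule k A) = 2)
    (hidem : ∀ z ∈ Subalgebra.center k A, e * z = z → z * z = z → z = 0 ∨ z = e) :
    ∃ n : ℕ, 0 < n ∧ finrank k (corner k e) = 2 * (n * n) := by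
  classical
  set I : Ideal A := Ideal.span {1 - e} with hI
  have hmem : ∀ a, a ∈ I ↔ e * a = 0 := fun a => by
    rw [hI, Ideal.mem_span_singleton']
    constructor
    · rintro ⟨b, rfl⟩
      rw [← mul_assoc, hc b, mul_assoc, mul_sub, mul_one, hee, sub_self, mul_zero]
    · intro h
      exact ⟨a, by rw [mul_sub, mul_one, ← hc, h, sub_zero]⟩
  haveI : I.IsTwoSided := ⟨fun {a} b ha => by
    rw [hmem] at ha ⊢
    rw [← mul_assoc, ha, zero_mul]⟩
  let q : A →ₐ[k] A ⧸ I := Ideal.Quotient.mkₐ k I
  have hq : ∀ a b, q a = q b ↔ e * a = e * b := fun a b => by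
    rw [Ideal.Quotient.mkₐ_eq_mk, Ideal.Quotient.mk_eq_mk_iff_sub_mem, hmem, mul_sub, sub_eq_zero]
  have hqsurj : Function.Surjective q := Ideal.Quotient.mkₐ_surjective k I
  let g : corner k e →ₗ[k] A ⧸ I := q.toLinearMap.comp (corner k e).subtype
  have hg : Function.Bijective g := by
    refine ⟨fun x y h => Subtype.ext ?_, fun r => ?_⟩
    · have := (hq _ _).1 h
      change e * (x : A) = e * (y : A) at this
      rwa [show e * (x : A) = x from x.2, show e * (y : A) = y from y.2] at this
    · obtain ⟨a, rfl⟩ := hqsurj r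
      exact ⟨⟨e * a, by rw [mem_corner, ← mul_assoc, hee]⟩,
        (hq _ _).2 (show e * (e * a) = e * a by rw [← mul_assoc, hee])⟩
  let L := LinearEquiv.ofBijective g hg
  have hLq : ∀ a, (L.symm (q a) : A) = e * a := fun a => by
    have : L ⟨e * a, by rw [mem_corner, ← mul_assoc, hee]⟩ = q a :=
      (hq _ _).2 (show e * (e * a) = e * a by rw [← mul_assoc, hee])
    rw [← this, L.symm_apply_apply]
  haveI : Module.Finite k (A ⧸ I) := Module.Finite.of_surjective q.toLinearMap hqsurj
  haveI : Nontrivial (A ⧸ I) := ⟨⟨q e, 0, fun h => hne (by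
    rw [← map_zero q, hq, hee, mul_zero] at h
    exact h)⟩⟩
  let τ' : A ⧸ I →ₗ[k] k := (τ.comp (corner k e).subtype).comp L.symm.toLinearMap
  have hτ'q : ∀ a, τ' (q a) = τ (e * a) := fun a => congrArg τ (hLq a)
  have hcq : ∀ a, q a ∈ Subalgebra.center k (A ⧸ I) ↔ e * a ∈ Subalgebra.center k A := fun a => by
    simp only [Subalgebra.mem_center_iff]
    constructor
    · intro h b
      have h1 := h (q b)
      rw [← map_mul, ← map_mul, hq] at h1
      rw [← mul_assoc, ← hc, mul_assoc, h1, mul_assoc]
    · intro h r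
      obtain ⟨b, rfl⟩ := hqsurj r
      rw [← map_mul, ← map_mul, hq, ← mul_assoc, hc, mul_assoc, h b, mul_assoc]
  have hZeq : (Subalgebra.center k (A ⧸ I)).toSubmodule =
      ((corner k e ⊓ (Subalgebra.center k A).toSubmodule : Submodule k A)).map q.toLinearMap := by
    ext r
    obtain ⟨a, rfl⟩ := hqsurj r
    constructor
    · intro h
      exact ⟨e * a, ⟨by show e * (e * a) = e * a; rw [← mul_assoc, hee], (hcq a).1 h⟩,
        (hq _ _).2 (by rw [← mul_assoc, hee])⟩
    · rintro ⟨x, ⟨hx1, hx2⟩, hx⟩
      rw [← hx]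
      exact (hcq x).2 (by rw [show e * x = x from hx1]; exact hx2)
  obtain ⟨n, hn, hdim⟩ := exists_finrank_eq_two_mul_sq τ'
    (fun r s => by
      obtain ⟨a, rfl⟩ := hqsurj r
      obtain ⟨b, rfl⟩ := hqsurj s
      rw [← map_mul, ← map_mul, hτ'q, hτ'q, ← mul_assoc, hτ, ← mul_assoc, ← hc, mul_assoc])
    (fun r h => by
      obtain ⟨a, rfl⟩ := hqsurj r
      rw [← map_zero q, hq, mul_zero]
      exact hnd _ fun b => by
        have := h (q b)
        rwa [← map_mul, hτ'q, ← mul_assoc] at this)
    (by
      show finrank k (Subalgebra.center k (A ⧸ I)).toSubmodule = 2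
      rw [hZeq, ← hZ]
      set S : Submodule k A := corner k e ⊓ (Subalgebra.center k A).toSubmodule
      refine (LinearEquiv.ofBijective (q.toLinearMap.submoduleMap S)
        ⟨fun x y h => Subtype.ext ?_, LinearMap.submoduleMap_surjective _ _⟩).finrank_eq.symm
      have h1 := (hq _ _).1 (congrArg Subtype.val h)
      change e * (x : A) = e * (y : A) at h1
      rwa [show e * (x : A) = x from x.2.1, show e * (y : A) = y from y.2.1] at h1)
    (fun r hr hidr => by
      obtain ⟨a, rfl⟩ := hqsurj r
      have h2 : e * a * (e * a) = e * a := by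
        have h3 : e * (a * a) = e * a := (hq _ _).1 (by rw [map_mul]; exact hidr)
        rw [mul_assoc, ← mul_assoc a, ← hc, mul_assoc e a a, ← mul_assoc, hee, h3]
      rcases hidem (e * a) ((hcq a).1 hr) (by rw [← mul_assoc, hee]) h2 with h | h
      · exact Or.inl (by rw [← map_zero q, hq, mul_zero, h])
      · exact Or.inr (by rw [← map_one q, hq, mul_one, h]))
  exact ⟨n, hn, L.finrank_eq.trans hdim⟩

end Corner

section GroupAlgebra

variable {G : Type u} [Group G] [Fintype G] {M : Ideal AlgInt} {p : ℕ}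

/-- The coefficient isomorphism. -/
noncomputable def fnEquiv (K : Type*) [CommRing K] (G : Type u) [Group G] [Finite G] :
    MonoidAlgebra K G ≃ₗ[K] (G → K) where
  toFun := fn
  map_add' a b := funext fun g => fn_add a b g
  map_smul' c a := funext fun g => fn_smul c a g
  invFun := ofFn
  left_inv a := fn_ext fun g => by rw [fn_ofFn]
  right_inv f := fn_ofFn f

theorem convOp_eq (f : MonoidAlgebra ℂ G) (v : G → ℂ) : convOp f v = fn (f * ofFn v) := by
  classical
  funext a
  rw [convOp_apply, fn_mul', fn_ofFn]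

theorem resVec_eq (x : G → ℂ) : resVec M x = fn (red M (ofFn x)) :=
  funext fun g => by rw [fn_red, fn_ofFn]; rfl

theorem fn_mul_one_symm {K : Type*} [CommRing K] (a b : MonoidAlgebra K G) :
    fn (a * b) 1 = fn (b * a) 1 := by
  rw [fn_mul, fn_mul]
  exact Fintype.sum_equiv (Equiv.inv G) _ _ fun h => by simp [mul_comm]

theorem finrank_corner_red (hM : IsPModular p M) {B : Set (IrrCharacter G)} (hB : IsPBlock M B)
    [DecidablePred (· ∈ B)] :
    (finrank (Res M) (corner (Res M) (red M (blockElem B))) : ℂ) =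
      ((∑ χ ∈ Finset.univ.filter (· ∈ B), deg (χ : G → ℂ) ^ 2 : ℕ) : ℂ) := by
  classical
  set E := blockElem B with hE
  set eb := red M E with heb
  set P := convOp E with hP
  have hEi : Integral M E := integral_blockElem hM hB
  have hEE : E * E = E := blockElem_mul_self B
  set W' := (corner (Res M) eb).map (fnEquiv (Res M) G).toLinearMap with hW'
  set K' := (LinearMap.ker (LinearMap.mulLeft (Res M) eb)).map (fnEquiv (Res M) G).toLinearMap with hK'
  have hW : redSub M (LinearMap.range P) ≤ W' := by
    rintro _ ⟨x, ⟨y, rfl⟩, hxi, rfl⟩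
    refine ⟨red M (ofFn (P y)), ?_, (resVec_eq _).symm⟩
    show eb * red M (ofFn (P y)) = red M (ofFn (P y))
    have hi : Integral M (ofFn (P y)) := fun g => by rw [fn_ofFn]; exact hxi g
    rw [heb, ← red_mul hEi hi]
    refine congrArg _ (fn_ext fun g => ?_)
    rw [hP, fn_ofFn, ← convOp_eq, ← Module.End.mul_apply, ← convOp_mul, hEE]
  have hK : redSub M (LinearMap.ker P) ≤ K' := by
    rintro _ ⟨x, hx, hxi, rfl⟩
    refine ⟨red M (ofFn x), ?_, (resVec_eq _).symm⟩
    show eb * red M (ofFn x) = 0
    have hi : Integral M (ofFn x) := fun g => by rw [fn_ofFn]; exact hxi g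
    rw [heb, ← red_mul hEi hi, ← red_zero (M := M)]
    refine congrArg _ (fn_ext fun g => ?_)
    rw [← convOp_eq, ← hP, show P x = 0 from hx, fn_zero, Pi.zero_apply]
  have hdisj : W' ⊓ K' = ⊥ := by
    rw [hW', hK', ← Submodule.map_inf _ (fnEquiv (Res M) G).injective, Submodule.map_eq_bot_iff]
    · refine (Submodule.eq_bot_iff _).2 fun a ha => ?_
      exact (ha.1 : eb * a = a).symm.trans ha.2
  have h1 := Submodule.finrank_mono hW
  have h2 := Submodule.finrank_mono hK
  have h3 := Submodule.finrank_sup_add_finrank_inf_eq W' K'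
  have h4 := Submodule.finrank_le (W' ⊔ K')
  have h5 := LinearMap.finrank_range_add_finrank_ker P
  rw [finrank_redSub] at h1 h2
  rw [hdisj, finrank_bot] at h3
  rw [Module.finrank_fintype_fun_eq_card] at h4 h5
  have hrk : finrank (Res M) (corner (Res M) eb) = finrank ℂ (LinearMap.range P) := by
    have h6 : finrank (Res M) W' = finrank (Res M) (corner (Res M) eb) :=
      ((fnEquiv (Res M) G).submoduleMap (corner (Res M) eb)).finrank_eq.symm
    omega
  have hproj : LinearMap.IsProj (LinearMap.range P) P := ⟨fun x => ⟨x, rfl⟩, by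
    rintro _ ⟨y, rfl⟩
    rw [hP, ← Module.End.mul_apply, ← convOp_mul, hEE]⟩
  rw [hrk, ← hproj.trace, LinearMap.trace_eq_matrix_trace ℂ (Pi.basisFun ℂ G),
    LinearMap.toMatrix_eq_toMatrix', Matrix.trace]
  simp only [Matrix.diag_apply, hP, toMatrix'_convOp, mul_inv_cancel, Finset.sum_const, Finset.card_univ,
    hE, fn_blockElem, blockCoeff_eq_sum, nsmul_eq_mul]
  rw [Nat.card_eq_fintype_card, ← mul_assoc, mul_inv_cancel₀ (Nat.cast_ne_zero.2 Fintype.card_ne_zero),
    one_mul, Nat.cast_sum]
  refine Finset.sum_congr rfl fun χ _ => ?_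
  rw [irr_apply_one_eq_deg, Complex.conj_natCast, sq, Nat.cast_mul]

/-- The degrees of a block with two characters. -/
theorem exists_sum_sq_eq (hM : IsPModular p M) {B : Set (IrrCharacter G)} (hB : IsPBlock M B)
    [DecidablePred (· ∈ B)] {χ₁ χ₂ : IrrCharacter G} (hne : χ₁ ≠ χ₂)
    (hmem : ∀ φ, φ ∈ B ↔ φ = χ₁ ∨ φ = χ₂) :
    ∃ n : ℕ, 0 < n ∧ deg (χ₁ : G → ℂ) ^ 2 + deg (χ₂ : G → ℂ) ^ 2 = 2 * (n * n) := by
  classical
  haveI := isAlgClosed_res M
  haveI : FiniteDimensional (Res M) (MonoidAlgebra (Res M) G) :=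
    Module.Finite.equiv (fnEquiv (Res M) G).symm
  have hS : Finset.univ.filter (· ∈ B) = {χ₁, χ₂} := by
    ext φ
    simp [hmem]
  set E := blockElem B with hE
  have hEi : Integral M E := integral_blockElem hM hB
  have hEc : IsCentralFn E := isCentralFn_blockElem B
  set eb := red M E with heb
  have hebc : IsCentralFn eb := hEc.red
  have hB₁ : χ₁ ∈ B := (hmem _).2 (Or.inl rfl)
  have hee : eb * eb = eb := by rw [heb, ← red_mul hEi hEi, blockElem_mul_self]
  have hdim := finrank_corner_red hM hB
  rw [hS, Finset.sum_pair hne, Nat.cast_inj] at hdim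
  have hne0 : eb ≠ 0 := by
    intro h
    have h0 : corner (Res M) eb = ⊥ := (Submodule.eq_bot_iff _).2 fun x hx => by
      rw [mem_corner, h, zero_mul] at hx
      exact hx.symm
    rw [← heb, h0, finrank_bot] at hdim
    have := deg_irr_pos χ₁
    nlinarith
  -- the two idempotents
  have hsing : ∀ φ : IrrCharacter G, ∀ χ : IrrCharacter G,
      omega (χ : G → ℂ) (blockElem {φ}) = if χ = φ then 1 else 0 := fun φ χ => by
    rw [omega_blockElem]
    simp
  set W : Submodule ℂ (G → ℂ) := Submodule.span ℂ {fn (blockElem {χ₁}), fn (blockElem {χ₂})} with hW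
  have hWdim : finrank ℂ W = 2 := by
    have hli : LinearIndependent ℂ ![fn (blockElem {χ₁}), fn (blockElem ({χ₂} : Set (IrrCharacter G)))] := by
      rw [LinearIndependent.pair_iff]
      intro s t hst
      have hst' : s • blockElem {χ₁} + t • blockElem {χ₂} = (0 : MonoidAlgebra ℂ G) :=
        fn_ext fun g => by
          have := congrFun hst g
          simpa using this
      have e1 := congrArg (omega (χ₁ : G → ℂ)) hst'
      have e2 := congrArg (omega (χ₂ : G → ℂ)) hst'
      simp [omega_add, omega_smul, omega_zero, hsing, hne, hne.symm] at e1 e2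
      exact ⟨e1, e2⟩
    have h := finrank_span_eq_card hli
    rw [Fintype.card_fin, Matrix.range_cons_cons_empty] at h
    exact h
  have hWprop : ∀ x ∈ W, IsCentralFn (ofFn x) ∧ E * ofFn x = ofFn x := by
    intro x hx
    obtain ⟨s, t, rfl⟩ := Submodule.mem_span_pair.1 hx
    have hx' : ofFn (s • fn (blockElem {χ₁}) + t • fn (blockElem ({χ₂} : Set (IrrCharacter G)))) =
        s • blockElem {χ₁} + t • blockElem {χ₂} := fn_ext fun g => by simp
    have hc : IsCentralFn (s • blockElem {χ₁} + t • blockElem ({χ₂} : Set (IrrCharacter G))) :=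
      ((isCentralFn_blockElem _).smul s).add ((isCentralFn_blockElem _).smul t)
    rw [hx']
    refine ⟨hc, eq_of_omega_eq (hEc.mul hc) hc fun χ => ?_⟩
    rw [omega_mul χ hEc, hE, omega_blockElem, omega_add, omega_smul, omega_smul, hsing, hsing]
    by_cases h1 : χ = χ₁
    · subst h1; simp [hB₁, hne]
    · by_cases h2 : χ = χ₂
      · subst h2; simp [(hmem χ).2 (Or.inr rfl), hne.symm]
      · simp [h1, h2]
  have hWmem : ∀ Y, IsCentralFn Y → E * Y = Y → fn Y ∈ W := by
    intro Y hY hEY
    refine Submodule.mem_span_pair.2 ⟨omega (χ₁ : G → ℂ) Y, omega (χ₂ : G → ℂ) Y, ?_⟩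
    have : omega (χ₁ : G → ℂ) Y • blockElem {χ₁} + omega (χ₂ : G → ℂ) Y • blockElem {χ₂} = Y := by
      refine eq_of_omega_eq (((isCentralFn_blockElem _).smul _).add ((isCentralFn_blockElem _).smul _))
        hY fun χ => ?_
      rw [omega_add, omega_smul, omega_smul, hsing, hsing]
      conv_rhs => rw [← hEY, omega_mul χ hEc, hE, omega_blockElem]
      by_cases h1 : χ = χ₁
      · subst h1; simp [hB₁, hne]
      · by_cases h2 : χ = χ₂
        · subst h2; simp [(hmem χ).2 (Or.inr rfl), hne.symm]
        · simp [h1, h2, hmem]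
    conv_rhs => rw [← this]
    funext g
    simp
  -- lifting
  have lift : ∀ v : MonoidAlgebra (Res M) G, v ∈ Subalgebra.center (Res M) (MonoidAlgebra (Res M) G) →
      eb * v = v → ∃ Y, IsCentralFn Y ∧ Integral M Y ∧ E * Y = Y ∧ red M Y = v := by
    intro v hv hev
    have hvc : IsCentralFn v := fun g h => by
      have h1 := congrArg (fun a => fn a (h * g)) ((Subalgebra.mem_center_iff).1 hv (MonoidAlgebra.single h (1 : Res M)))
      simp only [fn_single_mul, fn_mul_single, one_mul, mul_one, inv_mul_cancel_left] at h1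
      exact h1.symm
    set σ := Function.surjInv (IsLocalRing.residue_surjective (R := place M))
    set Y₀ : MonoidAlgebra ℂ G := ofFn fun g => ((σ (fn v g) : place M) : ℂ)
    have hY₀c : IsCentralFn Y₀ := isCentralFn_ofFn fun g h => by rw [hvc g h]
    have hY₀i : Integral M Y₀ := fun g => by rw [fn_ofFn]; exact (σ (fn v g)).2
    have hred : red M Y₀ = v := fn_ext fun g => by
      rw [fn_red, fn_ofFn, res_coe]; exact Function.surjInv_eq _ _
    refine ⟨E * Y₀, hEc.mul hY₀c, hEi.mul hY₀i, by rw [← mul_assoc, hE, blockElem_mul_self], ?_⟩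
    rw [red_mul hEi hY₀i, hred, hev]
  obtain ⟨n, hn, h⟩ := exists_finrank_corner eb hebc.comm hee hne0
    ((LinearMap.proj 1).comp (fnEquiv (Res M) G).toLinearMap)
    (fun a b => fn_mul_one_symm a b)
    (fun a h => fn_ext fun g => by
      have := h (MonoidAlgebra.single g⁻¹ 1)
      change fn (a * MonoidAlgebra.single g⁻¹ 1) 1 = 0 at this
      rwa [fn_mul_single, inv_inv, one_mul, mul_one, ← fn_zero g] at this)
    (by
      rw [← hWdim, ← finrank_redSub M W,
        ((fnEquiv (Res M) G).submoduleMap _).finrank_eq]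
      refine congrArg (fun S : Submodule (Res M) (G → Res M) => finrank (Res M) S) ?_
      apply le_antisymm
      · rintro _ ⟨v, ⟨hv1, hv2⟩, rfl⟩
        obtain ⟨Y, hY, hYi, hEY, hYv⟩ := lift v hv2 hv1
        refine ⟨fn Y, hWmem Y hY hEY, fun g => hYi g, ?_⟩
        show resVec M (fn Y) = fn v
        rw [← hYv]
        exact funext fun g => (fn_red Y g).symm
      · rintro _ ⟨x, hx, hxi, rfl⟩
        obtain ⟨h1, h2⟩ := hWprop x hx
        have hi : Integral M (ofFn x) := fun g => by rw [fn_ofFn]; exact hxi g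
        refine ⟨red M (ofFn x), ⟨?_, ?_⟩, (resVec_eq x).symm⟩
        · show eb * red M (ofFn x) = red M (ofFn x)
          rw [heb, ← red_mul hEi hi, h2]
        · exact (Subalgebra.mem_center_iff (R := Res M)).2 fun b => (h1.red.comm b).symm)
    (fun z hz hez hzz => by
      obtain ⟨Y, hY, hYi, hEY, hYz⟩ := lift z hz hez
      set w := omega (χ₁ : G → ℂ) Y
      have hw : w ∈ place M := omega_mem_place hM χ₁ hY hYi
      have hnil : IsNilpotent (z - res M w • eb) := by
        rw [← hYz, heb, ← red_smul hEi hw, ← red_sub hYi (hEi.smul hw)]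
        refine isNilpotent_red_of_omega_small hM (hY.sub (hEc.smul w)) (hYi.sub (hEi.smul hw)) fun χ => ?_
        rw [omega_sub, omega_smul, hE, omega_blockElem]
        by_cases hχ : χ ∈ B
        · rw [if_pos hχ, mul_one]
          exact (res_eq_iff (omega_mem_place hM χ hY hYi) hw).1
            (res_omega_eq_of_sameBlock hM (IsPBlock.sameBlock hM hB hχ hB₁) hY hYi)
        · have h0 : omega (χ : G → ℂ) Y = 0 := by
            rw [← hEY, omega_mul χ hEc, hE, omega_blockElem, if_neg hχ, zero_mul]
          rw [if_neg hχ, h0, mul_zero, sub_zero]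
          exact small_zero
      by_cases hc0 : res M w = 0
      · rw [hc0, zero_smul, sub_zero] at hnil
        exact Or.inl (IsIdempotentElem.eq_zero_of_isNilpotent hzz hnil)
      · right
        have hzeb : z * eb = z := by rw [← hebc.comm z]; exact hez
        have hy : IsIdempotentElem (eb - z) := by
          show (eb - z) * (eb - z) = eb - z
          rw [mul_sub, sub_mul, sub_mul, hee, hez, hzeb, hzz]
          abel
        have hcz : Commute eb z := hebc.comm z
        have hcomm : Commute (z - res M w • eb) (eb - z) :=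
          (hcz.symm.sub_right (Commute.refl z)).sub_left
            (((Commute.refl eb).sub_right hcz).smul_left _)
        have hn2 := hcomm.isNilpotent_mul_right hnil
        have hprod : (z - res M w • eb) * (eb - z) = (-res M w) • (eb - z) := by
          rw [sub_mul, smul_mul_assoc, mul_sub eb eb z, hee, hez, mul_sub z eb z, hzeb, hzz, sub_self,
            zero_sub, neg_smul]
        rw [hprod] at hn2
        have hn3 : IsNilpotent (eb - z) := by
          obtain ⟨m, hm⟩ := hn2
          refine ⟨m, ?_⟩
          rw [smul_pow] at hm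
          exact (smul_eq_zero_iff_right (pow_ne_zero _ (neg_ne_zero.2 hc0))).1 hm
        exact (sub_eq_zero.1 (hy.eq_zero_of_isNilpotent hn3)).symm)
  exact ⟨n, hn, hdim.symm.trans h⟩

end GroupAlgebra

end Cfsg.Lib.Blocks.TwoMember
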