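import Mathlib
import Cfsg.Agent.Blocks.TwoMember.BlockAlgebra
import Cfsg.Agent.Blocks.RankOneBlock
import Cfsg.Agent.Blocks.DefectTwo

/-!
# A block has exactly two characters if and only if its defect groups have order two
-/

set_option autoImplicit false
set_option linter.unusedSectionVars false
set_option linter.style.haveILetI false

namespace Cfsg.Lib.Blocks.TwoMember

open Cfsg.Lib.Chars
open scoped ComplexConjugate

universe u

variable {G : Type u} [Group G] [Fintype G] {M : Ideal AlgInt} {p : ℕ}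

theorem factorization_two_mul_sq (n : ℕ) (hn : n ≠ 0) :
    (2 * (n * n)).factorization 2 = 1 + 2 * n.factorization 2 := by
  rw [Nat.factorization_mul two_ne_zero (mul_ne_zero hn hn), Nat.factorization_mul hn hn]
  simp [Nat.Prime.factorization_self Nat.prime_two]
  omega

/-- The arithmetic of the two degrees. -/
theorem arith {p δ d₁ d₂ U V n : ℕ} (hp : p.Prime) (h : d₁ ^ 2 + d₂ ^ 2 = p ^ δ)
    (hd : d₁ ≠ 0) (hU : U ≠ 0) (hcop : Nat.Coprime d₁ d₂) (hprop : U * d₂ = V * d₁) (hn : n ≠ 0)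
    (hUV : U ^ 2 + V ^ 2 = 2 * (n * n)) : p = 2 ∧ δ ≤ 1 := by
  have key : 2 * (n * n) * (d₁ * d₁) = U * U * p ^ δ := by
    rw [← hUV, ← h]
    calc (U ^ 2 + V ^ 2) * (d₁ * d₁) = U * U * d₁ ^ 2 + (V * d₁) * (V * d₁) := by ring
      _ = _ := by rw [← hprop]; ring
  have hp2 : p = 2 := by
    by_contra hne
    have h2 := congrArg (fun m : ℕ => m.factorization 2) key
    simp only [Nat.factorization_mul (mul_ne_zero two_ne_zero (mul_ne_zero hn hn)) (mul_ne_zero hd hd),
      Nat.factorization_mul (mul_ne_zero hU hU) (pow_ne_zero _ hp.ne_zero),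
      Nat.factorization_mul hd hd, Nat.factorization_mul hU hU, Finsupp.add_apply,
      factorization_two_mul_sq n hn, hp.factorization_pow, Finsupp.single_eq_of_ne (Ne.symm hne)] at h2
    omega
  refine ⟨hp2, ?_⟩
  subst hp2
  by_contra hlt
  have h4 : ((d₁ : ZMod 4)) ^ 2 + (d₂ : ZMod 4) ^ 2 = 0 := by
    have h' := congrArg (fun m : ℕ => (m : ZMod 4)) h
    simp only [Nat.cast_add, Nat.cast_pow] at h'
    rw [h', show δ = 2 + (δ - 2) by omega, pow_add, show ((2 : ℕ) : ZMod 4) ^ 2 = 0 by decide, zero_mul]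
  have hdec : ∀ a b : ZMod 4, a ^ 2 + b ^ 2 = 0 → 2 * a = 0 ∧ 2 * b = 0 := by decide
  obtain ⟨e₁, e₂⟩ := hdec _ _ h4
  have f₁ : 2 ∣ d₁ := by
    rw [show (2 : ZMod 4) = ((2 : ℕ) : ZMod 4) from rfl, ← Nat.cast_mul, ZMod.natCast_eq_zero_iff] at e₁
    omega
  have f₂ : 2 ∣ d₂ := by
    rw [show (2 : ZMod 4) = ((2 : ℕ) : ZMod 4) from rfl, ← Nat.cast_mul, ZMod.natCast_eq_zero_iff] at e₂
    omega
  exact Nat.not_coprime_of_dvd_of_dvd one_lt_two f₁ f₂ hcop

/-- A block of positive defect with two characters has regular rank one. -/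
theorem blockRank_eq_one (hM : IsPModular p M) {B : Set (IrrCharacter G)} (hB : IsPBlock M B)
    {D : Subgroup G} (hD : IsDefectGroup p M B D) (hD1 : 1 < Nat.card D)
    {χ₁ χ₂ : IrrCharacter G} (hne : χ₁ ≠ χ₂) (hBeq : B = {χ₁, χ₂}) : blockRank p B = 1 := by
  classical
  haveI := Fact.mk hM.1
  have hS : Finset.univ.filter (· ∈ B) = {χ₁, χ₂} := by
    ext φ
    simp [hBeq]
  obtain ⟨χ, hχ, h0⟩ := exists_height_zero hM hB
  obtain ⟨g₀, hg₀, S, hDS⟩ := id hD
  obtain ⟨z, hz1⟩ : ∃ z : D, z ≠ 1 := by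
    haveI : Nontrivial D := Finite.one_lt_card_iff_nontrivial.1 hD1
    exact exists_ne 1
  have hzp := exists_orderOf_eq_of_mem hM.1 (IsDefectGroup.isPGroup hD) z.2
  have hzg : Commute (z : G) g₀ :=
    Subgroup.mem_centralizer_singleton_iff.1
      (Subgroup.map_subtype_le _ ((SetLike.ext_iff.1 hDS (z : G)).1 z.2))
  have hunit := isUnitAt_apply_mul_defectClass hM hB hg₀ hχ h0 hzg hzp
  have hreg₀ := not_dvd_orderOf_of_not_small hM hB ((isDefectClass_iff hM hB g₀).1 hg₀).1
  have hs₀ : p ∣ orderOf ((z : G) * g₀) := by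
    by_contra h
    exact hz1 (Subtype.ext (IsPPart.eq hM.1 (isPPart_mul hzg hzp hreg₀) ((isPPart_one_iff hM.1).2 h)))
  have hle : blockRank p B ≤ 2 := by
    unfold blockRank
    refine (finrank_span_le_card _).trans ?_
    rw [← Set.ncard_eq_toFinset_card']
    exact (Set.ncard_image_le (Set.toFinite B)).trans (by rw [hBeq, Set.ncard_pair hne])
  have hpos : blockRank p B ≠ 0 := by
    intro h
    unfold blockRank at h
    rw [Submodule.finrank_eq_zero, Submodule.span_eq_bot] at h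
    have h1 : pRegularPart p (χ : G → ℂ) 1 = 0 := congrFun (h _ ⟨χ, hχ, rfl⟩) 1
    rw [pRegularPart_apply, if_neg (by rw [orderOf_one]; exact hM.1.not_dvd_one)] at h1
    exact IsIrrCharacter.apply_one_ne_zero χ.2 h1
  by_contra hne1
  have h2 : blockRank p B = 2 := by omega
  have hsum := sum_classInner_eq_blockRank hM hB
  rw [h2, hS, Finset.sum_pair hne] at hsum
  have hterm : ∀ θ : IrrCharacter G, classInner (pRegularPart p (θ : G → ℂ)) (θ : G → ℂ) =
      1 - ((((Nat.card G : ℝ))⁻¹ *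
        ∑ g, if p ∣ orderOf g then Complex.normSq ((θ : G → ℂ) g) else 0 : ℝ) : ℂ) := by
    intro θ
    have h1 : classInner (θ : G → ℂ) (θ : G → ℂ) = 1 := by rw [classInner_irrCharacter, if_pos rfl]
    rw [← h1, classInner_def, classInner_def, eq_sub_iff_add_eq]
    push_cast
    rw [← mul_add, ← Finset.sum_add_distrib]
    congr 1
    refine Finset.sum_congr rfl fun g _ => ?_
    rw [pRegularPart_apply]
    split_ifs with hg
    · rw [Complex.mul_conj]; simp
    · simp
  rw [hterm, hterm] at hsum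
  set q := fun θ : IrrCharacter G => ((Nat.card G : ℝ))⁻¹ *
    ∑ g, if p ∣ orderOf g then Complex.normSq ((θ : G → ℂ) g) else 0
  have hq : q χ₁ + q χ₂ = 0 := by
    have : ((q χ₁ + q χ₂ : ℝ) : ℂ) = 0 := by
      push_cast at hsum ⊢
      simp only [q] at *
      push_cast
      linear_combination -hsum
    exact_mod_cast this
  have hq0 : ∀ θ, 0 ≤ q θ := fun θ => mul_nonneg (by positivity)
    (Finset.sum_nonneg fun g _ => by split_ifs <;> simp [Complex.normSq_nonneg])
  have hqχ : q χ = 0 := by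
    have := hq0 χ₁
    have := hq0 χ₂
    rw [hBeq] at hχ
    rcases hχ with rfl | rfl <;> linarith
  have hz0 := (mul_eq_zero.1 hqχ).resolve_left
    (inv_ne_zero (by exact_mod_cast (Nat.card_pos (α := G)).ne'))
  have h3 := (Finset.sum_eq_zero_iff_of_nonneg
    (fun g _ => by split_ifs <;> simp [Complex.normSq_nonneg])).1 hz0 _ (Finset.mem_univ ((z : G) * g₀))
  rw [if_pos hs₀, Complex.normSq_eq_zero] at h3
  exact hunit.not_small (by rw [h3]; exact small_zero)

theorem card_eq_two_iff (hM : IsPModular p M) {B : Set (IrrCharacter G)} (hB : IsPBlock M B)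
    {D : Subgroup G} (hD : IsDefectGroup p M B D) : Nat.card B = 2 ↔ Nat.card D = 2 := by
  classical
  haveI := Fact.mk hM.1
  have hcard := IsDefectGroup.card hM hB hD
  constructor
  · intro h
    obtain ⟨χ₁, χ₂, hne, hBeq⟩ := Set.ncard_eq_two.1 (by rwa [← Nat.card_coe_set_eq])
    have hδ : 0 < blockDefect p B := by
      by_contra h0
      have := four_mul_card_le hM hB
      rw [show blockDefect p B = 0 by omega, h] at this
      simp at this
    have hl := blockRank_eq_one hM hB hD (by rw [hcard]; exact Nat.one_lt_pow (by omega) hM.1.one_lt)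
      hne hBeq
    obtain ⟨φ, d, ⟨n, hn⟩, hreg, hsq⟩ := exists_of_blockRank_one hM hB hl
    have hmem : ∀ θ, θ ∈ B ↔ θ = χ₁ ∨ θ = χ₂ := fun θ => by rw [hBeq]; simp
    have hp1 : IsPRegular p (1 : G) := by
      unfold IsPRegular
      rw [orderOf_one]
      exact hM.1.not_dvd_one
    have e₁ := hreg χ₁ ((hmem _).2 (Or.inl rfl)) 1 hp1
    have e₂ := hreg χ₂ ((hmem _).2 (Or.inr rfl)) 1 hp1
    have e₀ := hn 1 hp1
    rw [hBeq, finsum_mem_pair hne] at e₀
    rw [hBeq, finsum_mem_pair hne] at hsq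
    rw [e₁, e₂] at e₀
    have hφ : φ 1 ≠ 0 := fun h0 => IsIrrCharacter.apply_one_ne_zero χ₁.2 (by rw [e₁, h0, mul_zero])
    have hbez : n χ₁ * (d χ₁ : ℤ) + n χ₂ * (d χ₂ : ℤ) = 1 := by
      apply Int.cast_injective (α := ℂ)
      push_cast
      apply mul_right_cancel₀ hφ
      linear_combination -e₀
    have hd1 : d χ₁ ≠ 0 := fun h0 => IsIrrCharacter.apply_one_ne_zero χ₁.2 (by rw [e₁, h0]; simp)
    have hprop : deg (χ₁ : G → ℂ) * d χ₂ = deg (χ₂ : G → ℂ) * d χ₁ := by
      apply Nat.cast_injective (R := ℂ)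
      push_cast
      rw [← irr_apply_one_eq_deg, ← irr_apply_one_eq_deg, e₁, e₂]
      ring
    obtain ⟨m, hm, hUV⟩ := exists_sum_sq_eq hM hB hne hmem
    obtain ⟨hp2, hle⟩ := arith hM.1 hsq hd1 (deg_irr_pos χ₁).ne'
      (Nat.isCoprime_iff_coprime.1 ⟨n χ₁, n χ₂, hbez⟩) hprop hm.ne' hUV
    rw [hcard, show blockDefect p B = 1 by rw [← hBeq] at hle; omega, hp2, pow_one]
  · intro h
    rw [hcard] at h
    obtain ⟨hp2, hδ⟩ := (Nat.Prime.pow_eq_iff Nat.prime_two).1 h
    subst hp2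
    obtain ⟨χ, ψ, hne, hmem, -, -⟩ := defect_one_two hM hB hδ
    rw [Nat.card_coe_set_eq, show B = {χ, ψ} from Set.ext fun θ => by simp [hmem], Set.ncard_pair hne]

end Cfsg.Lib.Blocks.TwoMember
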